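import Mathlib
import Cfsg.Agent.Lib.Helper8.PG.Defs
import Cfsg.Agent.Lib.Helper14.Spec.Final
import Cfsg.Agent.Lib.Helper14.POmegaOrder
import Cfsg.Agent.Lib.Helper14.SOIndex
import Cfsg.Agent.Lib.Helper14.Spinor
import Cfsg.Agent.Lib.Helper14.Forms
import Cfsg.Agent.Lib.Helper14.OmegaInv

set_option autoImplicit false

/-!
# PG (S2474), package [BRIDGE]: element orders of `PΩ_{2n+1}(q)` and `Ω_{2n+1}(q)` agree
-/

namespace Cfsg.Agent.Lib.Helper43.PG

open Matrix Module Cfsg.Agent.Lib.Helper14 Cfsg.Agent.Lib.Helper8.PG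

universe u

/-- the centre of `Ω_{2n+1}(q)` is trivial (`q` odd, `n ≥ 3`) -/
theorem center_omega_odd_eq_bot {F : Type u} [Field F] [Fintype F]
    (hodd : Odd (Fintype.card F)) (n : ℕ) (hn : 3 ≤ n) :
    Subgroup.center ↥(Cfsg.Omega F (Cfsg.quadFormOdd n F)) = ⊥ := by
  classical
  have h2 : (2 : F) ≠ 0 := two_ne_zero_of_card_odd hodd
  obtain ⟨E₀, hE₀, hE₀0⟩ := exists_ts_three (oddQF n F)
    (fun j => Sum.inr (Sum.inl (Fin.castLE hn j)))
    (fun j => Sum.inr (Sum.inr (Fin.castLE hn j)))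
    (fun j => by rw [oddQF_coe]; exact odd_isHypPair n F _)
    (fun i j h => by
      have h' := Sum.inl_injective (Sum.inr_injective h)
      exact Fin.castLE_injective _ h')
    (fun i j => by simp)
  have hQ := oddQF_nondegenerate n F h2
  have hno : ¬ ∃ g : ↥(Cfsg.isometryGroup F (Cfsg.quadFormOdd n F)),
      g ∈ Cfsg.Omega F (Cfsg.quadFormOdd n F) ∧
      ((g : Matrix.GeneralLinearGroup (Unit ⊕ (Fin n ⊕ Fin n)) F) :
        Matrix (Unit ⊕ (Fin n ⊕ Fin n)) (Unit ⊕ (Fin n ⊕ Fin n)) F) = -1 := by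
    rintro ⟨g, hg, hmat⟩
    have hdet := (mem_specialIsometryGroup_iff _ g).mp
      (commutator_le_specialIsometryGroup _ hg)
    rw [hmat, Matrix.det_neg, Matrix.det_one, mul_one, Fintype.card_sum, Fintype.card_sum,
      Fintype.card_fin, Fintype.card_unit] at hdet
    have hodd' : Odd (1 + (n + n)) := ⟨n, by ring⟩
    rw [Odd.neg_one_pow hodd'] at hdet
    apply h2
    linear_combination -hdet
  exact Cfsg.Agent.Lib.Helper14.Spec.center_omega_eq_bot' (oddQF n F) hQ _ (oddQF_coe n F)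
    E₀ hE₀ hE₀0 hno

/-- in a group with trivial centre, passing to the quotient by the centre preserves orders -/
theorem orderOf_mk_center {H : Type*} [Group H] (hZ : Subgroup.center H = ⊥) (g : H) :
    orderOf (QuotientGroup.mk g : H ⧸ Subgroup.center H) = orderOf g := by
  have hinj : Function.Injective (QuotientGroup.mk' (Subgroup.center H)) := by
    rw [← MonoidHom.ker_eq_bot_iff, QuotientGroup.ker_mk', hZ]
  exact orderOf_injective (QuotientGroup.mk' (Subgroup.center H)) hinj g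

theorem pkgBridge : PkgBridge.{u} := by
  intro F _ _ hodd n hn N
  have hZ := center_omega_odd_eq_bot hodd n hn
  constructor
  · rintro ⟨x, rfl⟩
    obtain ⟨g, rfl⟩ := QuotientGroup.mk_surjective x
    refine ⟨g.1, g.2, ?_⟩
    rw [orderOf_mk_center hZ g]
    exact Subgroup.orderOf_coe g
  · rintro ⟨g, hg, rfl⟩
    refine ⟨(QuotientGroup.mk (⟨g, hg⟩ : ↥(Cfsg.Omega F (Cfsg.quadFormOdd n F))) :
      Cfsg.POmega F (Cfsg.quadFormOdd n F)), ?_⟩
    rw [orderOf_mk_center hZ]
    exact (Subgroup.orderOf_coe (⟨g, hg⟩ : ↥(Cfsg.Omega F (Cfsg.quadFormOdd n F)))).symm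

end Cfsg.Agent.Lib.Helper43.PG
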