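import Mathlib
import Cfsg.Agent.Lib.Helper8.PG.Defs
import Cfsg.Agent.Lib.Helper14.Spinor
import Cfsg.Agent.Lib.Helper14.Forms
import Cfsg.Agent.Lib.Helper14.OmegaInv

set_option autoImplicit false

/-!
# PG (S2474), package [GLUE]: matrices versus group elements
-/

namespace Cfsg.Agent.Lib.Helper43.PG

open Matrix Cfsg.Agent.Lib.Helper14 Cfsg.Agent.Lib.Helper8.PG

universe u

section generic

variable {ι : Type} [Fintype ι] [DecidableEq ι] {F : Type*} [Field F]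

/-- powers of an isometry versus powers of its matrix -/
theorem isom_pow_eq_one_iff {Qf : (ι → F) → F} (x : ↥(Cfsg.isometryGroup F Qf)) (j : ℕ) :
    x ^ j = 1 ↔ ((x : Matrix.GeneralLinearGroup ι F) : Matrix ι ι F) ^ j = 1 := by
  constructor
  · intro h
    have h1 := congrArg (fun y : ↥(Cfsg.isometryGroup F Qf) =>
      ((y : Matrix.GeneralLinearGroup ι F) : Matrix ι ι F)) h
    simpa using h1
  · intro h
    apply isom_ext
    simpa using h

/-- the order of an isometry from the set of trivial powers of its matrix -/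
theorem isom_orderOf_eq {Qf : (ι → F) → F} (x : ↥(Cfsg.isometryGroup F Qf)) (N : ℕ)
    (h : ∀ j : ℕ, ((x : Matrix.GeneralLinearGroup ι F) : Matrix ι ι F) ^ j = 1 ↔ N ∣ j) :
    orderOf x = N := by
  apply Nat.dvd_antisymm
  · apply orderOf_dvd_of_pow_eq_one
    rw [isom_pow_eq_one_iff]
    exact (h N).mpr dvd_rfl
  · rw [← h, ← isom_pow_eq_one_iff]
    exact pow_orderOf_eq_one x

theorem glue_generic [Fintype F] (Q : QuadraticForm F (ι → F))
    (hQ : (QuadraticMap.polarBilin Q).Nondegenerate) (Qf : (ι → F) → F) (hQf : ⇑Q = Qf)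
    (hSq : ∀ h : ↥(Cfsg.isometryGroup F Qf), h * h ∈ Cfsg.Omega F Qf) (N : ℕ) :
    (Odd N → (∃ g : Matrix ι ι F, (∀ v, Qf (g *ᵥ v) = Qf v) ∧ ∀ j : ℕ, g ^ j = 1 ↔ N ∣ j) →
        ∃ x : ↥(Cfsg.isometryGroup F Qf), x ∈ Cfsg.Omega F Qf ∧ orderOf x = N) ∧
      ((∃ x : ↥(Cfsg.isometryGroup F Qf), x ∈ Cfsg.Omega F Qf ∧ orderOf x = N) →
        ∃ g : Matrix ι ι F, (∀ v, Qf (g *ᵥ v) = Qf v) ∧ ∀ j : ℕ, g ^ j = 1 ↔ N ∣ j) ∧
      ((∃ h : Matrix ι ι F, (∀ v, Qf (h *ᵥ v) = Qf v) ∧ ∀ j : ℕ, (h * h) ^ j = 1 ↔ N ∣ j) →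
        ∃ x : ↥(Cfsg.isometryGroup F Qf), x ∈ Cfsg.Omega F Qf ∧ orderOf x = N) := by
  subst hQf
  refine ⟨?_, ?_, ?_⟩
  · rintro hN ⟨g, hg, hj⟩
    let x : ↥(Cfsg.isometryGroup F ⇑Q) := mkIsom Q hQ g hg
    have hx : orderOf x = N := isom_orderOf_eq x N hj
    refine ⟨x, ?_, hx⟩
    obtain ⟨m, hm⟩ := hN
    have hxx : x = (x * x) ^ (m + 1) := by
      rw [← pow_two, ← pow_mul]
      have : 2 * (m + 1) = N + 1 := by omega
      rw [this, pow_succ, ← hx, pow_orderOf_eq_one, one_mul]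
    rw [hxx]
    exact Subgroup.pow_mem _ (hSq x) _
  · rintro ⟨x, _, hx⟩
    refine ⟨((x : Matrix.GeneralLinearGroup ι F) : Matrix ι ι F), isom_preserves x, ?_⟩
    intro j
    rw [← isom_pow_eq_one_iff, ← hx]
    exact orderOf_dvd_iff_pow_eq_one.symm
  · rintro ⟨h, hh, hj⟩
    let x : ↥(Cfsg.isometryGroup F ⇑Q) := mkIsom Q hQ h hh
    refine ⟨x * x, hSq x, ?_⟩
    apply isom_orderOf_eq
    intro j
    have : (((x * x : ↥(Cfsg.isometryGroup F ⇑Q)) : Matrix.GeneralLinearGroup ι F) :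
        Matrix ι ι F) = h * h := rfl
    rw [this]
    exact hj j

end generic

theorem pkgGlue : PkgGlue.{u} := by
  intro hSq F _ _ hodd n N
  have h2 : (2 : F) ≠ 0 := two_ne_zero_of_card_odd hodd
  exact glue_generic (oddQF n F) (oddQF_nondegenerate n F h2) _ (oddQF_coe n F)
    (fun h => hSq hodd n h) N

end Cfsg.Agent.Lib.Helper43.PG
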