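import Mathlib
import Cfsg.Agent.Lib.Helper8.PG.Defs
import Cfsg.Agent.Lib.Helper14.Spinor
import Cfsg.Agent.Lib.Helper14.Forms
import Cfsg.Agent.Lib.Helper14.OmegaInv

set_option autoImplicit false

/-!
# PG (S2474), package [SQ]: squares of isometries lie in `Ω`
-/

namespace Cfsg.Agent.Lib.Helper43.PG

open Matrix Cfsg.Agent.Lib.Helper14 Cfsg.Agent.Lib.Helper8.PG

universe u

/-- squares of isometries lie in the commutator subgroup (form given as a function) -/
theorem sq_mem_omega {ι : Type} [Fintype ι] [DecidableEq ι] {F : Type*} [Field F] [Fintype F]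
    (h2 : (2 : F) ≠ 0) (Q : QuadraticForm F (ι → F))
    (hQ : (QuadraticMap.polarBilin Q).Nondegenerate) (Qf : (ι → F) → F) (hQf : ⇑Q = Qf)
    (h : ↥(Cfsg.isometryGroup F Qf)) : h * h ∈ Cfsg.Omega F Qf := by
  subst hQf
  obtain ⟨l, hl, rfl⟩ := exists_eq_prodElt h2 Q hQ h
  have hl2 : ∀ u ∈ l ++ l, Q u ≠ 0 := by
    intro u hu
    rcases List.mem_append.mp hu with hu | hu
    · exact hl u hu
    · exact hl u hu
  have heq : prodElt Q hQ l hl * prodElt Q hQ l hl = prodElt Q hQ (l ++ l) hl2 := by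
    apply eq_prodElt
    rw [List.map_append, List.prod_append]
    rfl
  rw [heq]
  show prodElt Q hQ (l ++ l) hl2 ∈ commutator ↥(Cfsg.isometryGroup F ⇑Q)
  rw [prodElt_mem_commutator_iff h2 Q hQ (l ++ l) hl2]
  refine ⟨?_, ?_⟩
  · rw [List.length_append]
    exact ⟨l.length, rfl⟩
  · rw [List.map_append, List.prod_append]
    exact ⟨(l.map ⇑Q).prod, rfl⟩

theorem pkgSq : PkgSq.{u} := by
  intro F _ _ hodd n h
  have h2 : (2 : F) ≠ 0 := two_ne_zero_of_card_odd hodd
  exact sq_mem_omega h2 (oddQF n F) (oddQF_nondegenerate n F h2) _ (oddQF_coe n F) h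

end Cfsg.Agent.Lib.Helper43.PG
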